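import Mathlib

/-! Sign of a Todd-type coefficient for large parameters. -/

set_option autoImplicit false
open PowerSeries

namespace ToddSign

theorem bernoulli_sign {k : ℕ} (hk : k ≠ 0) : 0 < (-1 : ℚ) ^ (k + 1) * bernoulli (2 * k) := by
  have h := hasSum_zeta_nat hk
  have hpos : (0 : ℝ) < (-1) ^ (k + 1) * 2 ^ (2 * k - 1) * Real.pi ^ (2 * k) * (bernoulli (2 * k) : ℝ) / (2 * k).factorial := by
    rw [← h.tsum_eq]
    refine h.summable.tsum_pos (fun i => by positivity) 1 ?_
    simp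
  have h2 : (0 : ℝ) < 2 ^ (2 * k - 1) * Real.pi ^ (2 * k) / (2 * k).factorial := by positivity
  have h3 : (0 : ℝ) < (-1) ^ (k + 1) * (bernoulli (2 * k) : ℝ) := by
    have e : (-1 : ℝ) ^ (k + 1) * 2 ^ (2 * k - 1) * Real.pi ^ (2 * k) * (bernoulli (2 * k) : ℝ) / (2 * k).factorial =
        ((-1) ^ (k + 1) * (bernoulli (2 * k) : ℝ)) * (2 ^ (2 * k - 1) * Real.pi ^ (2 * k) / (2 * k).factorial) := by
      ring
    rw [e] at hpos
    exact pos_of_mul_pos_left hpos h2.le
  exact_mod_cast h3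

theorem bernoulli'_sign {k : ℕ} (hk : k ≠ 0) : 0 < (-1 : ℚ) ^ (k + 1) * bernoulli' (2 * k) := by
  rw [← bernoulli_eq_bernoulli'_of_ne_one (by omega)]
  exact bernoulli_sign hk

theorem rescale_neg_mul_exp :
    rescale (-1 : ℚ) (bernoulli'PowerSeries ℚ) * exp ℚ = bernoulli'PowerSeries ℚ := by
  have h := bernoulli'PowerSeries_mul_exp_sub_one ℚ
  have h' := congrArg (rescale (-1 : ℚ)) h
  rw [map_mul, map_mul, map_sub, map_one, rescale_X] at h'
  have he : rescale (-1 : ℚ) (exp ℚ) * exp ℚ = 1 := by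
    have := exp_mul_exp_eq_exp_add (A := ℚ) (-1) 1
    rw [rescale_one, RingHom.id_apply] at this
    rw [this, neg_add_cancel, rescale_zero, RingHom.comp_apply, constantCoeff_exp, map_one]
  have hne : exp ℚ - 1 ≠ 0 := fun h0 => by
    have := congrArg (coeff 1) h0
    simp [coeff_exp] at this
  refine mul_right_cancel₀ hne ?_
  rw [h]
  rw [map_neg, map_one] at h'
  linear_combination (-(exp ℚ) ^ 2) * h' +
    ((rescale (-1 : ℚ) (bernoulli'PowerSeries ℚ)) * exp ℚ + X * exp ℚ) * he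

theorem rescale_neg_mul (a : ℚ) :
    rescale (-a) (bernoulli'PowerSeries ℚ) * rescale a (exp ℚ) = rescale a (bernoulli'PowerSeries ℚ) := by
  conv_rhs => rw [← rescale_neg_mul_exp, map_mul]
  rw [rescale_rescale, neg_one_mul]

theorem eventually_neg (m : ℕ) (c : ℕ → ℚ) (h : c m < 0) :
    ∃ P : ℕ, ∀ p : ℕ, P ≤ p → ∑ k ∈ Finset.range (m + 1), c k * (p : ℚ) ^ k < 0 := by
  obtain ⟨P, hP⟩ := exists_nat_gt ((∑ k ∈ Finset.range m, |c k|) / (-c m))
  refine ⟨P + 1, fun p hp => ?_⟩
  have hp1 : (1 : ℚ) ≤ p := by exact_mod_cast (by omega : 1 ≤ p)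
  have hPp : (P : ℚ) ≤ p := by exact_mod_cast (by omega : P ≤ p)
  rw [Finset.sum_range_succ]
  rcases Nat.eq_zero_or_pos m with rfl | hm
  · simpa using h
  have h1 : ∑ k ∈ Finset.range m, c k * (p : ℚ) ^ k ≤
      (∑ k ∈ Finset.range m, |c k|) * (p : ℚ) ^ (m - 1) := by
    rw [Finset.sum_mul]
    refine Finset.sum_le_sum fun k hk => ?_
    rw [Finset.mem_range] at hk
    exact (mul_le_mul_of_nonneg_right (le_abs_self _) (by positivity)).trans
      (mul_le_mul_of_nonneg_left (pow_le_pow_right₀ hp1 (by omega)) (abs_nonneg _))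
  have h2 : (∑ k ∈ Finset.range m, |c k|) < (-c m) * p :=
    (div_lt_iff₀' (neg_pos.2 h)).1 (hP.trans_le hPp)
  have h3 : (∑ k ∈ Finset.range m, |c k|) * (p : ℚ) ^ (m - 1) < (-c m) * p * (p : ℚ) ^ (m - 1) :=
    mul_lt_mul_of_pos_right h2 (by positivity)
  have h4 : (-c m) * p * (p : ℚ) ^ (m - 1) = - (c m * (p : ℚ) ^ m) := by
    rw [mul_assoc, ← pow_succ', show m - 1 + 1 = m by omega]
    ring
  linarith

theorem constantCoeff_rescale (a : ℚ) (f : ℚ⟦X⟧) :
    constantCoeff (rescale a f) = constantCoeff f := by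
  rw [← coeff_zero_eq_constantCoeff_apply, coeff_rescale, pow_zero, one_mul,
    coeff_zero_eq_constantCoeff_apply]

theorem exists_bound (n d : ℕ) (s : ℤ) (hn : 2 ≤ n)
    (h : (n % 4 = 0) ∨ (n % 4 = 1 ∧ (n : ℤ) + d + 1 < 2 * s) ∨ (n % 4 = 3 ∧ 2 * s < (n : ℤ) + d + 1)) :
    ∃ P : ℕ, ∀ p : ℕ, P ≤ p →
      coeff n ((rescale (-(d : ℚ)) (bernoulli'PowerSeries ℚ))⁻¹ * rescale (-((d : ℚ) * p)) (bernoulli'PowerSeries ℚ) * bernoulli'PowerSeries ℚ ^ (n + 1) * rescale ((d : ℚ) * p - d - n - 1 + s) (exp ℚ)) < 0 ∨ d = 0 := by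
  rcases Nat.eq_zero_or_pos d with hd | hd
  · exact ⟨0, fun _ _ => Or.inr hd⟩
  set B := bernoulli'PowerSeries ℚ
  set G := (rescale (-(d : ℚ)) B)⁻¹ * B ^ (n + 1) * rescale (-(d : ℚ) - n - 1 + s) (exp ℚ) with hG
  have hrw : ∀ p : ℕ, (rescale (-(d : ℚ)) B)⁻¹ * rescale (-((d : ℚ) * p)) B * B ^ (n + 1) *
      rescale ((d : ℚ) * p - d - n - 1 + s) (exp ℚ) = rescale ((d : ℚ) * p) B * G := by
    intro p
    rw [← rescale_neg_mul ((d : ℚ) * p), show (d : ℚ) * p - d - n - 1 + s = (d : ℚ) * p + (-(d : ℚ) - n - 1 + s) by ring,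
      ← exp_mul_exp_eq_exp_add, hG]
    ring
  have hsum : ∀ p : ℕ, coeff n (rescale ((d : ℚ) * p) B * G) =
      ∑ k ∈ Finset.range (n + 1), ((d : ℚ) ^ k * coeff k B * coeff (n - k) G) * (p : ℚ) ^ k := by
    intro p
    rw [coeff_mul, Finset.Nat.sum_antidiagonal_eq_sum_range_succ_mk]
    refine Finset.sum_congr rfl fun k _ => ?_
    rw [coeff_rescale, mul_pow]
    ring
  have hB : ∀ k, coeff k B = bernoulli' k / k.factorial := fun k => by
    simp [B, bernoulli'PowerSeries]
  have hB0 : constantCoeff B = 1 := by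
    rw [← coeff_zero_eq_constantCoeff_apply, hB]
    simp
  have hG0 : coeff 0 G = 1 := by
    rw [coeff_zero_eq_constantCoeff_apply, hG, map_mul, map_mul, constantCoeff_inv,
      constantCoeff_rescale, constantCoeff_rescale, map_pow, hB0, constantCoeff_exp]
    simp
  rcases Nat.even_or_odd n with ⟨k, hk⟩ | ⟨k, hk⟩
  · -- even degree: the top term
    obtain ⟨P, hP⟩ := eventually_neg n (fun k => (d : ℚ) ^ k * coeff k B * coeff (n - k) G) (by
      show (d : ℚ) ^ n * coeff n B * coeff (n - n) G < 0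
      have h4 : n % 4 = 0 := by omega
      have hs := bernoulli'_sign (k := k) (by omega)
      rw [Odd.neg_one_pow (show Odd (k + 1) from ⟨k / 2, by omega⟩), show 2 * k = n by omega] at hs
      rw [Nat.sub_self, hG0, mul_one, hB]
      exact mul_neg_of_pos_of_neg (by positivity) (div_neg_of_neg_of_pos (by linarith) (by positivity)))
    exact ⟨P, fun p hp => Or.inl (by rw [hrw, hsum]; exact hP p hp)⟩
  · -- odd degree: the term below
    have hn' : bernoulli' n = 0 := bernoulli'_eq_zero_of_odd ⟨k, hk⟩ (by omega)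
    have hG1 : coeff 1 G = (2 * (s : ℚ) - d - n - 1) / 2 := by
      have hinv : coeff 1 (rescale (-(d : ℚ)) B)⁻¹ = (d : ℚ) / 2 := by
        have hmul := congrArg (coeff 1) (PowerSeries.mul_inv_cancel (rescale (-(d : ℚ)) B)
          (by rw [constantCoeff_rescale, hB0]; exact one_ne_zero))
        rw [coeff_mul, Finset.Nat.sum_antidiagonal_eq_sum_range_succ_mk, Finset.sum_range_succ,
          Finset.sum_range_one] at hmul
        simp only [coeff_rescale, hB, Nat.sub_zero, Nat.sub_self, coeff_zero_eq_constantCoeff_apply,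
          constantCoeff_inv, constantCoeff_rescale, hB0, coeff_one] at hmul
        norm_num at hmul
        linarith
      have h1 : coeff 1 B = 1 / 2 := by rw [hB]; norm_num
      rw [hG, coeff_one_mul, coeff_one_mul, coeff_one_pow, hinv, h1, coeff_rescale, coeff_exp,
        map_mul, constantCoeff_inv, constantCoeff_rescale, constantCoeff_rescale, map_pow, hB0,
        constantCoeff_exp]
      norm_num
      ring
    obtain ⟨P, hP⟩ := eventually_neg (n - 1) (fun k => (d : ℚ) ^ k * coeff k B * coeff (n - k) G) (by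
      show (d : ℚ) ^ (n - 1) * coeff (n - 1) B * coeff (n - (n - 1)) G < 0
      rw [show n - (n - 1) = 1 by omega, hG1, hB, show n - 1 = 2 * k by omega]
      have hs := bernoulli'_sign (k := k) (by omega)
      rcases h with h | ⟨h4, hls⟩ | ⟨h4, hls⟩
      · omega
      · have hlsQ : (n : ℚ) + d + 1 < 2 * s := by exact_mod_cast hls
        rw [Odd.neg_one_pow (show Odd (k + 1) from ⟨k / 2, by omega⟩)] at hs
        refine mul_neg_of_neg_of_pos (mul_neg_of_pos_of_neg (by positivity)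
          (div_neg_of_neg_of_pos (by linarith) (by positivity))) (by linarith)
      · have hlsQ : 2 * (s : ℚ) < (n : ℚ) + d + 1 := by exact_mod_cast hls
        rw [Even.neg_one_pow (show Even (k + 1) from ⟨(k + 1) / 2, by omega⟩)] at hs
        refine mul_neg_of_pos_of_neg (mul_pos (by positivity)
          (div_pos (by linarith) (by positivity))) (by linarith))
    refine ⟨P, fun p hp => Or.inl ?_⟩
    rw [hrw, hsum, Finset.sum_range_succ, hB n, hn']
    have := hP p hp
    rw [show n - 1 + 1 = n by omega] at this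
    simpa using this

end ToddSign
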